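import Mathlib
import Cfsg.Prelude.Def_Transfer
import Cfsg.Agent.CharDeep.TransferExt

/-!
# S4547 [I]: linear characters of order two of `P` and of `P ∩ O²(G)`, `G / O²(G)` cyclic

`L = O²(G)`, `G = L <x>`, `x ∈ P`, `Q = L ∩ P`: the restriction `Hom(P, ±1) → Hom(Q, ±1)^x` is onto with kernel of
order two. The extension problem is solved by the transfer: if `l ∈ Hom(Q, ±1)^x` has `l(x ^ n) = -1`, `n = |G : L|`,
then `l` extends to `μ : P → ℂˣ` with `μ(x) ^ n = -1`, and the transfer `V` of `μ` has `V(x) ^ n = (-1) ^ |G : P| = -1`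
although `x ^ n ∈ O²(G) ≤ ker V`.
-/

set_option autoImplicit false

namespace Cfsg.Agent.H220.K547

open Cfsg Subgroup

section ext

variable {G : Type*} [Group G] {L P : Subgroup G} {x : G} {A : Type*} [CommGroup A]

/-- powers of `x` -/
theorem inv_zpow {l : ↥(L ⊓ P) →* A} (hxQ : ∀ q ∈ L ⊓ P, x * q * x⁻¹ ∈ L ⊓ P)
    (hxQ' : ∀ q ∈ L ⊓ P, x⁻¹ * q * x ∈ L ⊓ P)
    (hinv : ∀ (q : ↥(L ⊓ P)) (h : x * q * x⁻¹ ∈ L ⊓ P), l ⟨x * q * x⁻¹, h⟩ = l q) (m : ℤ) :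
    ∀ q (hq : q ∈ L ⊓ P), ∃ h : x ^ m * q * (x ^ m)⁻¹ ∈ L ⊓ P, l ⟨_, h⟩ = l ⟨q, hq⟩ := by
  induction m using Int.induction_on with
  | zero =>
    intro q hq
    refine ⟨by simpa using hq, ?_⟩
    congr 1
    apply Subtype.ext
    simp
  | succ m ih =>
    intro q hq
    obtain ⟨h1, h2⟩ := ih q hq
    have e : x ^ ((m : ℤ) + 1) * q * (x ^ ((m : ℤ) + 1))⁻¹ = x * (x ^ (m : ℤ) * q * (x ^ (m : ℤ))⁻¹) * x⁻¹ := by
      rw [show (m : ℤ) + 1 = 1 + m by ring, zpow_add, zpow_one]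
      group
    refine ⟨by rw [e]; exact hxQ _ h1, ?_⟩
    rw [← h2, ← hinv ⟨_, h1⟩ (hxQ _ h1)]
    congr 1
    exact Subtype.ext e
  | pred m ih =>
    intro q hq
    obtain ⟨h1, h2⟩ := ih q hq
    have e : x * (x ^ (-(m : ℤ) - 1) * q * (x ^ (-(m : ℤ) - 1))⁻¹) * x⁻¹ = x ^ (-(m : ℤ)) * q * (x ^ (-(m : ℤ)))⁻¹ := by
      have : x ^ (-(m : ℤ)) = x * x ^ (-(m : ℤ) - 1) := by
        rw [← zpow_one_add]
        congr 1
        ring
      rw [this]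
      group
    have e' : x ^ (-(m : ℤ) - 1) * q * (x ^ (-(m : ℤ) - 1))⁻¹ =
        x⁻¹ * (x ^ (-(m : ℤ)) * q * (x ^ (-(m : ℤ)))⁻¹) * x := by
      rw [← e]
      group
    have h3 : x ^ (-(m : ℤ) - 1) * q * (x ^ (-(m : ℤ) - 1))⁻¹ ∈ L ⊓ P := by
      rw [e']
      exact hxQ' _ h1
    refine ⟨h3, ?_⟩
    rw [← h2, ← hinv ⟨_, h3⟩ (by rw [e]; exact h1)]
    congr 1
    exact Subtype.ext e

/-- **Extension** of an `x`-invariant homomorphism of `L ∩ P` to `P = (L ∩ P) <x>`. -/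
theorem exists_ext (l : ↥(L ⊓ P) →* A) (hxP : x ∈ P) (hxQ : ∀ q ∈ L ⊓ P, x * q * x⁻¹ ∈ L ⊓ P)
    (hxQ' : ∀ q ∈ L ⊓ P, x⁻¹ * q * x ∈ L ⊓ P)
    (hinv : ∀ (q : ↥(L ⊓ P)) (h : x * q * x⁻¹ ∈ L ⊓ P), l ⟨x * q * x⁻¹, h⟩ = l q)
    (hP : ∀ p ∈ P, ∃ i : ℤ, (x ^ i)⁻¹ * p ∈ L ⊓ P) {n : ℕ} (hn : ∀ i : ℤ, x ^ i ∈ L ↔ (n : ℤ) ∣ i)
    (hxn : x ^ n ∈ L ⊓ P) (ζ : A) (hζ : ζ ^ n = l ⟨x ^ n, hxn⟩) :
    ∃ μ : ↥P →* A, (∀ (q : G) (hq : q ∈ L ⊓ P), μ ⟨q, hq.2⟩ = l ⟨q, hq⟩) ∧ μ ⟨x, hxP⟩ = ζ ∧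
      ∀ (p : ↥P) (i : ℤ) (h : (x ^ i)⁻¹ * (p : G) ∈ L ⊓ P), μ p = ζ ^ i * l ⟨_, h⟩ := by
  choose i hi using hP
  have key : ∀ (p : G) (hp : p ∈ P) (j : ℤ) (h : (x ^ j)⁻¹ * p ∈ L ⊓ P),
      ζ ^ i p hp * l ⟨_, hi p hp⟩ = ζ ^ j * l ⟨_, h⟩ := by
    intro p hp j h
    set k := i p hp with hk
    have h1 : x ^ (k - j) ∈ L := by
      have h2 := L.mul_mem h.1 (L.inv_mem (hi p hp).1)
      -- `x^{-j} p p^{-1} x^k = x^{k - j}`
      have e : (x ^ j)⁻¹ * p * ((x ^ i p hp)⁻¹ * p)⁻¹ = x ^ (k - j) := by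
        rw [← hk, mul_inv_rev, inv_inv, zpow_sub]
        calc (x ^ j)⁻¹ * p * (p⁻¹ * x ^ k) = (x ^ j)⁻¹ * x ^ k := by group
          _ = x ^ k * (x ^ j)⁻¹ := by rw [← zpow_neg, ← zpow_add, ← zpow_add, add_comm]
      rwa [e] at h2
    obtain ⟨c, hc⟩ := (hn _).1 h1
    have h3 : (⟨(x ^ j)⁻¹ * p, h⟩ : ↥(L ⊓ P)) = ⟨x ^ n, hxn⟩ ^ c * ⟨(x ^ k)⁻¹ * p, hi p hp⟩ := by
      apply Subtype.ext
      rw [Subgroup.coe_mul, Subgroup.coe_zpow]
      change (x ^ j)⁻¹ * p = (x ^ n) ^ c * ((x ^ k)⁻¹ * p)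
      rw [← zpow_natCast x n, ← zpow_mul, ← hc, ← mul_assoc, ← zpow_neg, ← zpow_neg, ← zpow_add]
      congr 2
      ring
    rw [h3, map_mul, map_zpow, ← hζ, ← mul_assoc]
    congr 1
    rw [← zpow_natCast ζ n, ← zpow_mul, ← hc, ← zpow_add]
    congr 1
    ring
  have hmul : ∀ p p' : ↥P, ζ ^ i (p * p' : ↥P) (p * p').2 * l ⟨_, hi (p * p' : ↥P) (p * p').2⟩ =
      (ζ ^ i p p.2 * l ⟨_, hi p p.2⟩) * (ζ ^ i p' p'.2 * l ⟨_, hi p' p'.2⟩) := by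
    intro p p'
    obtain ⟨h1, h2⟩ := inv_zpow hxQ hxQ' hinv (-(i p' p'.2)) _ (hi p p.2)
    have e : (x ^ (i p p.2 + i p' p'.2))⁻¹ * ((p * p' : ↥P) : G) =
        (x ^ (-(i p' p'.2)) * ((x ^ i p p.2)⁻¹ * p) * (x ^ (-(i p' p'.2)))⁻¹) * ((x ^ i p' p'.2)⁻¹ * p') := by
      rw [Subgroup.coe_mul, zpow_add, zpow_neg]
      group
    have h3 : (x ^ (i p p.2 + i p' p'.2))⁻¹ * ((p * p' : ↥P) : G) ∈ L ⊓ P := by
      rw [e]
      exact mul_mem h1 (hi p' p'.2)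
    rw [key _ (p * p').2 _ h3]
    have h4 : (⟨_, h3⟩ : ↥(L ⊓ P)) = ⟨_, h1⟩ * ⟨_, hi p' p'.2⟩ := Subtype.ext e
    rw [h4, map_mul, h2, zpow_add]
    exact mul_mul_mul_comm _ _ _ _
  refine ⟨MonoidHom.mk' (fun p => ζ ^ i p p.2 * l ⟨_, hi p p.2⟩) hmul, ?_, ?_, ?_⟩
  · intro q hq
    have h1 : (x ^ (0 : ℤ))⁻¹ * q ∈ L ⊓ P := by simpa using hq
    change ζ ^ i q hq.2 * l ⟨_, hi q hq.2⟩ = _
    rw [key q hq.2 0 h1, zpow_zero, one_mul]
    congr 1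
    apply Subtype.ext
    simp
  · have h1 : (x ^ (1 : ℤ))⁻¹ * x ∈ L ⊓ P := by
      rw [zpow_one, inv_mul_cancel]
      exact one_mem _
    change ζ ^ i x hxP * l ⟨_, hi x hxP⟩ = _
    rw [key x hxP 1 h1, zpow_one]
    have h2 : (⟨_, h1⟩ : ↥(L ⊓ P)) = 1 := Subtype.ext (by
      change (x ^ (1 : ℤ))⁻¹ * x = 1
      rw [zpow_one, inv_mul_cancel])
    rw [h2, map_one, mul_one]
  · intro p j h
    exact key p p.2 j h

end ext

section main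

variable {G : Type*} [Group G] [Finite G]

omit [Finite G] in
/-- modulo `L` everything is a power of `x` -/
theorem exists_zpow (L : Subgroup G) [L.Normal] {x : G} (hx : L ⊔ zpowers x = ⊤) (g : G) :
    ∃ i : ℤ, (x ^ i)⁻¹ * g ∈ L := by
  have h1 : g ∈ L ⊔ zpowers x := by rw [hx]; exact mem_top g
  obtain ⟨a, ha, b, hb, rfl⟩ := Subgroup.mem_sup_of_normal_left.1 h1
  obtain ⟨i, rfl⟩ := mem_zpowers_iff.1 hb
  refine ⟨i, ?_⟩
  have := Subgroup.Normal.conj_mem (H := L) inferInstance a ha (x ^ i)⁻¹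
  rw [inv_inv] at this
  rw [← mul_assoc]
  exact this

/-- `-1` is not a value: the transfer argument -/
theorem pow_eq_one (P : Sylow 2 G) (L : Subgroup G) [L.Normal] (hL : L = pResidual 2 G) {x : G}
    (hx : L ⊔ zpowers x = ⊤) {n : ℕ} (hn : ∀ i : ℤ, x ^ i ∈ L ↔ (n : ℤ) ∣ i)
    (μ : ↥(P : Subgroup G) →* ℂˣ)
    (hμ : ∀ (p : ↥(P : Subgroup G)) (i : ℤ), (x ^ i)⁻¹ * (p : G) ∈ L → μ p ^ n = (-1) ^ i) : False := by
  classical
  have h2 : Fact (Nat.Prime 2) := ⟨Nat.prime_two⟩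
  let V := MonoidHom.transfer μ
  -- `V` is trivial on `L`
  have hVL : ∀ g ∈ L, V g = 1 := by
    intro g hg
    rw [hL] at hg
    have h1 : pResidual 2 G ≤ V.ker := by
      unfold pResidual
      rw [closure_le]
      intro y hy
      rw [SetLike.mem_coe, MonoidHom.mem_ker]
      have e1 : V y ^ Nat.card ↥(P : Subgroup G) = 1 :=
        CharDeep.TransferExt.transfer_pow_eq_one μ _ (fun h => by rw [← map_pow, pow_card_eq_one', map_one]) y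
      have e2 : V y ^ orderOf y = 1 := by rw [← map_pow, pow_orderOf_eq_one, map_one]
      obtain ⟨a, ha⟩ := P.isPGroup'.exists_card_eq
      have hcop : Nat.Coprime (orderOf y) (Nat.card ↥(P : Subgroup G)) := by
        rw [ha]
        exact Nat.Coprime.pow_right a hy
      have e3 := orderOf_dvd_of_pow_eq_one e1
      have e4 := orderOf_dvd_of_pow_eq_one e2
      rw [← orderOf_eq_one_iff]
      exact Nat.eq_one_of_dvd_coprimes hcop e4 e3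
    exact h1 hg
  have hVn : V x ^ n = 1 := by
    rw [← map_pow]
    apply hVL
    have := (hn (n : ℤ)).2 dvd_rfl
    rwa [zpow_natCast] at this
  -- the orbit formula
  have : Fintype (Quotient (MulAction.orbitRel (zpowers x) (G ⧸ (P : Subgroup G)))) := Fintype.ofFinite _
  have hV : V x ^ n = (-1) ^ (P : Subgroup G).index := by
    change MonoidHom.transfer μ x ^ n = _
    rw [MonoidHom.transfer_eq_prod_quotient_orbitRel_zpowers_quot, ← Finset.prod_pow,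
      index_eq_sum_minimalPeriod (P : Subgroup G) x, ← Finset.prod_pow_eq_pow_sum]
    refine Finset.prod_congr rfl fun q _ => ?_
    set r := Function.minimalPeriod (x • ·) q.out with hr
    obtain ⟨j, hj⟩ := exists_zpow L hx q.out.out
    rw [hμ _ (r : ℤ) ?_, zpow_natCast]
    -- `x^{-r} t⁻¹ x^r t ∈ L`, `t = x^j a`
    change (x ^ (r : ℤ))⁻¹ * (q.out.out⁻¹ * x ^ r * q.out.out) ∈ L
    set a := (x ^ j)⁻¹ * q.out.out with ha
    have ht : q.out.out = x ^ j * a := by rw [ha]; group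
    rw [ht]
    have e : (x ^ (r : ℤ))⁻¹ * ((x ^ j * a)⁻¹ * x ^ r * (x ^ j * a)) =
        ((x ^ (r : ℤ))⁻¹ * a⁻¹ * x ^ (r : ℤ)) * a := by
      have h5 : (x ^ j)⁻¹ * x ^ r * x ^ j = x ^ (r : ℤ) := by
        rw [← zpow_natCast, ← zpow_neg, ← zpow_add, ← zpow_add]
        congr 1
        ring
      calc (x ^ (r : ℤ))⁻¹ * ((x ^ j * a)⁻¹ * x ^ r * (x ^ j * a))
          = (x ^ (r : ℤ))⁻¹ * (a⁻¹ * ((x ^ j)⁻¹ * x ^ r * x ^ j) * a) := by group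
        _ = _ := by rw [h5]; group
    rw [e]
    refine L.mul_mem ?_ hj
    have := Subgroup.Normal.conj_mem (H := L) inferInstance a⁻¹ (L.inv_mem hj) (x ^ (r : ℤ))⁻¹
    rwa [inv_inv] at this
  rw [hVn] at hV
  have hodd : Odd (P : Subgroup G).index := Nat.not_even_iff_odd.1 fun h => P.not_dvd_index h.two_dvd
  rw [hodd.neg_one_pow] at hV
  have h3 := congrArg Units.val hV
  rw [Units.val_one, Units.val_neg, Units.val_one] at h3
  norm_num at h3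

/-- **[I]** -/
theorem card_hom_residual (P : Sylow 2 G) (L : Subgroup G) [L.Normal] (hL : L = pResidual 2 G) (hne : L ≠ ⊤) (x : G)
    (hxP : x ∈ (P : Subgroup G)) (hx : L ⊔ zpowers x = ⊤) :
    Nat.card (↥P →* ℤˣ) = 2 * Nat.card {l : ↥(L ⊓ (P : Subgroup G)) →* ℤˣ //
      ∀ (q : ↥(L ⊓ (P : Subgroup G))) (h : x * q * x⁻¹ ∈ L ⊓ (P : Subgroup G)), l ⟨x * q * x⁻¹, h⟩ = l q} := by
  classical
  have h2 : Fact (Nat.Prime 2) := ⟨Nat.prime_two⟩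
  have hLn : L.Normal := inferInstance
  -- the order of `x` modulo `L`
  set n := orderOf (x : G ⧸ L) with hndef
  have hn : ∀ i : ℤ, x ^ i ∈ L ↔ (n : ℤ) ∣ i := by
    intro i
    rw [← QuotientGroup.eq_one_iff, QuotientGroup.mk_zpow, orderOf_dvd_iff_zpow_eq_one]
  have hn0 : n ≠ 0 := (orderOf_pos _).ne'
  have hn1 : n ≠ 1 := by
    intro h
    apply hne
    rw [← hx]
    have h1 : x ∈ L := by
      have := (hn 1).2 (by rw [h]; norm_num)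
      rwa [zpow_one] at this
    exact (sup_eq_left.2 (by rwa [zpowers_le])).symm
  have hn2 : 2 ∣ n := by
    obtain ⟨a, ha⟩ := (IsPGroup.iff_orderOf.1 P.isPGroup') ⟨x, hxP⟩
    rw [Subgroup.orderOf_mk] at ha
    have h1 : n ∣ 2 ^ a := ha ▸ orderOf_map_dvd (QuotientGroup.mk' L) x
    obtain ⟨b, -, hb⟩ := (Nat.dvd_prime_pow Nat.prime_two).1 h1
    rw [hb]
    apply dvd_pow_self
    rintro rfl
    exact hn1 (by rw [hb, pow_zero])
  have hxQ : ∀ q ∈ L ⊓ (P : Subgroup G), x * q * x⁻¹ ∈ L ⊓ (P : Subgroup G) := fun q hq =>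
    ⟨hLn.conj_mem q hq.1 x, (P : Subgroup G).mul_mem ((P : Subgroup G).mul_mem hxP hq.2) ((P : Subgroup G).inv_mem hxP)⟩
  have hxQ' : ∀ q ∈ L ⊓ (P : Subgroup G), x⁻¹ * q * x ∈ L ⊓ (P : Subgroup G) := fun q hq =>
    ⟨by have := hLn.conj_mem q hq.1 x⁻¹; rwa [inv_inv] at this, (P : Subgroup G).mul_mem ((P : Subgroup G).mul_mem ((P : Subgroup G).inv_mem hxP) hq.2) hxP⟩
  have hP : ∀ p ∈ (P : Subgroup G), ∃ i : ℤ, (x ^ i)⁻¹ * p ∈ L ⊓ (P : Subgroup G) := fun p hp => by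
    obtain ⟨i, hi⟩ := exists_zpow L hx p
    exact ⟨i, hi, (P : Subgroup G).mul_mem ((P : Subgroup G).inv_mem ((P : Subgroup G).zpow_mem hxP i)) hp⟩
  have hxn : x ^ n ∈ L ⊓ (P : Subgroup G) := by
    refine ⟨?_, (P : Subgroup G).pow_mem hxP n⟩
    have := (hn (n : ℤ)).2 dvd_rfl
    rwa [zpow_natCast] at this
  -- the value at `x ^ n` is one
  have hone : ∀ l : ↥(L ⊓ (P : Subgroup G)) →* ℤˣ,
      (∀ (q : ↥(L ⊓ (P : Subgroup G))) (h : x * q * x⁻¹ ∈ L ⊓ (P : Subgroup G)), l ⟨x * q * x⁻¹, h⟩ = l q) →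
      l ⟨x ^ n, hxn⟩ = 1 := by
    intro l hl
    rcases Int.units_eq_one_or (l ⟨x ^ n, hxn⟩) with h | h
    · exact h
    · exfalso
      obtain ⟨z, hz⟩ := IsAlgClosed.exists_pow_nat_eq (-1 : ℂ) (Nat.pos_of_ne_zero hn0)
      have hz0 : z ≠ 0 := by
        rintro rfl
        rw [zero_pow hn0] at hz
        norm_num at hz
      let f : ℤˣ →* ℂˣ := Units.map (Int.castRingHom ℂ).toMonoidHom
      have hf1 : f (-1) = -1 := by
        apply Units.ext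
        simp [f]
      have hζ : (Units.mk0 z hz0) ^ n = (f.comp l) ⟨x ^ n, hxn⟩ := by
        rw [MonoidHom.comp_apply, h, hf1]
        apply Units.ext
        rw [Units.val_pow_eq_pow_val, Units.val_mk0, hz]
        simp
      obtain ⟨μ, -, -, hμ⟩ := exists_ext (f.comp l) hxP hxQ hxQ'
        (fun q hq => congrArg f (hl q hq)) hP hn hxn (Units.mk0 z hz0) hζ
      refine pow_eq_one P L hL hx hn μ fun p i hi => ?_
      rw [hμ p i ⟨hi, (P : Subgroup G).mul_mem ((P : Subgroup G).inv_mem ((P : Subgroup G).zpow_mem hxP i)) p.2⟩, mul_pow, ← zpow_natCast, ← zpow_mul, mul_comm i,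
        zpow_mul, zpow_natCast, hζ, MonoidHom.comp_apply, h, hf1]
      have h3 : (f.comp l) ⟨(x ^ i)⁻¹ * p, hi, (P : Subgroup G).mul_mem ((P : Subgroup G).inv_mem ((P : Subgroup G).zpow_mem hxP i)) p.2⟩ ^ n = 1 := by
        obtain ⟨c, hc⟩ := hn2
        rw [hc, pow_mul, ← map_pow]
        have h4 : ∀ u : ℤˣ, u ^ 2 = 1 := fun u => by
          rcases Int.units_eq_one_or u with h | h <;> rw [h] <;> rfl
        rw [MonoidHom.comp_apply, map_pow, h4, map_one, one_pow]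
      rw [h3, mul_one]
  -- the bijection
  let F : (↥P →* ℤˣ) → {l : ↥(L ⊓ (P : Subgroup G)) →* ℤˣ //
      ∀ (q : ↥(L ⊓ (P : Subgroup G))) (h : x * q * x⁻¹ ∈ L ⊓ (P : Subgroup G)), l ⟨x * q * x⁻¹, h⟩ = l q} × ℤˣ :=
    fun μ => (⟨μ.comp (inclusion inf_le_right), fun q h => by
      change μ (inclusion inf_le_right ⟨x * q * x⁻¹, h⟩) = μ (inclusion inf_le_right q)
      have e : inclusion (inf_le_right : L ⊓ (P : Subgroup G) ≤ P) ⟨x * q * x⁻¹, h⟩ =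
          ⟨x, hxP⟩ * inclusion inf_le_right q * (⟨x, hxP⟩ : ↥(P : Subgroup G))⁻¹ := Subtype.ext rfl
      rw [e, map_mul, map_mul, map_inv, mul_comm, inv_mul_cancel_left]⟩, μ ⟨x, hxP⟩)
  have hF : Function.Bijective F := by
    constructor
    · intro μ ν h
      have h1 : μ.comp (inclusion (inf_le_right : L ⊓ (P : Subgroup G) ≤ P)) =
          ν.comp (inclusion inf_le_right) := congrArg (fun y => y.1.1) h
      have h3 : μ ⟨x, hxP⟩ = ν ⟨x, hxP⟩ := congrArg Prod.snd h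
      apply MonoidHom.ext
      intro p
      obtain ⟨i, hi⟩ := hP p p.2
      have e : p = (⟨x, hxP⟩ : ↥(P : Subgroup G)) ^ i * inclusion inf_le_right ⟨_, hi⟩ := by
        apply Subtype.ext
        rw [Subgroup.coe_mul, Subgroup.coe_zpow]
        change (p : G) = x ^ i * ((x ^ i)⁻¹ * p)
        rw [mul_inv_cancel_left]
      rw [e, map_mul, map_mul, map_zpow, map_zpow, h3]
      congr 1
      exact DFunLike.congr_fun h1 ⟨_, hi⟩
    · rintro ⟨⟨l, hl⟩, ζ⟩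
      have hζ : ζ ^ n = l ⟨x ^ n, hxn⟩ := by
        rw [hone l hl]
        obtain ⟨c, hc⟩ := hn2
        rw [hc, pow_mul]
        rcases Int.units_eq_one_or ζ with h | h <;> rw [h] <;> simp
      obtain ⟨μ, h1, h3, -⟩ := exists_ext l hxP hxQ hxQ' hl hP hn hxn ζ hζ
      refine ⟨μ, Prod.ext (Subtype.ext (MonoidHom.ext fun q => ?_)) h3⟩
      exact h1 q q.2
  rw [Nat.card_congr (Equiv.ofBijective F hF), Nat.card_prod, mul_comm]
  congr 1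
  rw [Nat.card_eq_fintype_card]
  rfl

end main

end Cfsg.Agent.H220.K547
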