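import Cfsg.Agent.H514.K547.Defs
import Cfsg.Agent.H685.SigmaOne
import Cfsg.Agent.S0902
import Cfsg.Agent.Blocks.ExistsModular
import Cfsg.Agent.Transfer.Residual
import Cfsg.Agent.H692.Cliff

/-!
# S4547 [H]: good characters of `G` and of `O²(G)`, `G / O²(G)` cyclic (S4553 for the prime two)

* `inB0_of_mem` : membership in the principal 2-block for one maximal ideal is enough (S0902);
* `good_iff`, `fg_eq_card` : the good characters through one maximal ideal and one cubing exponent;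
* `fg_residual` : `#Good(G) = 2 #Good(O²(G))^x`, `G = O²(G) <x>`.
-/

set_option autoImplicit false

namespace Cfsg.Agent.H220.K547

open Cfsg Subgroup Cfsg.Agent.H601.K4 Cfsg.Agent.H618.Sigma Cfsg.Agent.H514.K547

universe u

variable {G : Type u} [Group G] [Finite G]

/-- membership in the principal 2-block for one maximal ideal -/
theorem inB0_of_mem {M : Ideal AlgInt} (hM : IsPModular 2 M) {χ : G → ℂ} (h : IsIrrCharacter G χ)
    (hm : (⟨χ, h⟩ : IrrCharacter G) ∈ principalBlock M G) : InB0 χ := by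
  have : Fact (Nat.Prime 2) := ⟨Nat.prime_two⟩
  intro M' hM' h' g
  obtain ⟨r, hr, he⟩ := S0902.result 2 M hM ⟨_, Cfsg.Agent.Blocks.Basic.isIrrCharacter_one⟩ ⟨χ, h⟩ hm M' hM' g
  refine ⟨r, 1, hr, (Ideal.ne_top_iff_one _).1 hM'.2.1.ne_top, ?_⟩
  rw [he]
  simp

/-- the good characters through one maximal ideal and one cubing exponent -/
theorem good_iff {M : Ideal AlgInt} (hM : IsPModular 2 M) {k : ℕ} (hk : Cube G k) {χ : G → ℂ}
    (h : IsIrrCharacter G χ) :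
    Good χ ↔ (⟨χ, h⟩ : IrrCharacter G) ∈ principalBlock M G ∧ ¬ 2 ∣ charDegree χ ∧ ∀ g : G, χ (g ^ k) = χ g :=
  ⟨fun hg => ⟨hg.b0 M hM h, hg.odd.2, hg.sig k hk.two hk.odd⟩,
    fun hg => ⟨⟨h, hg.2.1⟩, H740.K4.sigFix_of hk hg.2.2, inB0_of_mem hM h hg.1⟩⟩

/-- a set of good characters is in bijection with a subtype of `IrrCharacter` -/
theorem ncard_eq {M : Ideal AlgInt} (hM : IsPModular 2 M) {k : ℕ} (hk : Cube G k) (q : (G → ℂ) → Prop) :
    {χ : G → ℂ | Good χ ∧ q χ}.ncard = Nat.card {χ : IrrCharacter G // χ ∈ principalBlock M G ∧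
      ¬ 2 ∣ charDegree (χ : G → ℂ) ∧ q (χ : G → ℂ) ∧ ∀ g : G, (χ : G → ℂ) (g ^ k) = (χ : G → ℂ) g} := by
  rw [← Nat.card_coe_set_eq]
  refine Nat.card_congr ⟨fun χ => ⟨⟨χ.1, χ.2.1.odd.1⟩, ?_⟩, fun χ => ⟨χ.1, ?_⟩, fun _ => rfl, fun _ => rfl⟩
  · obtain ⟨h1, h2, h3⟩ := (good_iff hM hk χ.2.1.odd.1).1 χ.2.1
    exact ⟨h1, h2, χ.2.2, h3⟩
  · exact ⟨(good_iff hM hk χ.1.2).2 ⟨χ.2.1, χ.2.2.1, χ.2.2.2.2⟩, χ.2.2.2.1⟩

/-- the number of the good characters -/
theorem fg_eq_card {M : Ideal AlgInt} (hM : IsPModular 2 M) {k : ℕ} (hk : Cube G k) :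
    fg G = Nat.card {χ : IrrCharacter G // χ ∈ principalBlock M G ∧ ¬ 2 ∣ charDegree (χ : G → ℂ) ∧
      ∀ g : G, (χ : G → ℂ) (g ^ k) = (χ : G → ℂ) g} := by
  have h := ncard_eq hM hk (fun _ => True)
  simp only [and_true, true_and] at h
  exact h

/-- **[H]** -/
theorem fg_residual (L : Subgroup G) [L.Normal] (hL : L = pResidual 2 G) (hne : L ≠ ⊤) (x : G)
    (hx : L ⊔ zpowers x = ⊤) : fg G = 2 * (gsx L x).ncard := by
  have : Fact (Nat.Prime 2) := ⟨Nat.prime_two⟩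
  have hLn : L.Normal := inferInstance
  obtain ⟨M, hM⟩ := Cfsg.Agent.Blocks.ExistsModular.exists_isPModular Nat.prime_two
  obtain ⟨k, hk⟩ := H740.K4.exists_cube G
  obtain ⟨P⟩ : Nonempty (Sylow 2 G) := inferInstance
  have hcyc : IsCyclic (G ⧸ L) := by
    refine ⟨⟨(x : G ⧸ L), fun y => ?_⟩⟩
    obtain ⟨g, rfl⟩ := QuotientGroup.mk_surjective y
    have h1 : g ∈ L ⊔ zpowers x := by rw [hx]; exact mem_top g
    obtain ⟨a, ha, b, hb, rfl⟩ := Subgroup.mem_sup_of_normal_left.1 h1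
    obtain ⟨i, rfl⟩ := mem_zpowers_iff.1 hb
    refine mem_zpowers_iff.2 ⟨i, ?_⟩
    rw [QuotientGroup.mk_mul, (QuotientGroup.eq_one_iff a).2 ha, one_mul, QuotientGroup.mk_zpow]
  have h1 := Cfsg.Agent.H685.SigmaOne.main hM P L hL hcyc hne k hk.two
    (fun g hg => hk.odd g (Nat.coprime_two_right.1 hg))
  rw [fg_eq_card hM hk, h1]
  congr 1
  have h2 := ncard_eq (G := L) hM (hk.subgroup L) (fun θ => ∀ n : L, θ (MulAut.conjNormal x n) = θ n)
  rw [gsx, h2]
  refine Nat.card_congr (Equiv.subtypeEquivRight fun θ => ?_)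
  refine and_congr_right fun _ => and_congr_right fun _ => and_congr_left fun _ => ?_
  have hcl : L ≤ H692.Cliff.stab L (θ : L → ℂ) :=
    H692.Cliff.le_stab (Cfsg.Agent.Characters.Core.isIrr_isClassFunction θ.2)
  constructor
  · intro h
    have h3 : (P : Subgroup G) ≤ H692.Cliff.stab L (θ : L → ℂ) := fun y hy => h y hy
    have h4 : x ∈ H692.Cliff.stab L (θ : L → ℂ) := by
      have h5 : L ⊔ (P : Subgroup G) = ⊤ := by
        rw [hL]
        exact Cfsg.Agent.Transfer.Residual.pResidual_sup_sylow P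
      have h6 := sup_le hcl h3
      rw [h5] at h6
      exact h6 (mem_top x)
    exact h4
  · intro h y _
    have h4 : zpowers x ≤ H692.Cliff.stab L (θ : L → ℂ) := by
      rw [zpowers_le]
      exact h
    have h6 := sup_le hcl h4
    rw [hx] at h6
    exact h6 (mem_top y)

end Cfsg.Agent.H220.K547
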